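import Mathlib

/-!
# Points of flat finitely presented algebras over absolutely integrally closed local domains

`HasRoots V`: every monic polynomial of positive degree has a root. Over a local domain `V` with roots, a flat
finite type algebra with non-empty closed fibre has a `V`-point.
-/

universe u

namespace Groth.Agent.AICPoint

open Polynomial TensorProduct

/-- Every monic polynomial of positive degree has a root. -/
def HasRoots (V : Type u) [CommRing V] : Prop :=
  ∀ p : V[X], p.Monic → p.natDegree ≠ 0 → ∃ a, p.eval a = 0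

/-- In a domain extension, integral elements over a ring with roots come from it. -/
theorem HasRoots.mem_range {V L : Type u} [CommRing V] [CommRing L] [IsDomain L] [Algebra V L]
    (hV : HasRoots V) {y : L} (hy : IsIntegral V y) : y ∈ Set.range (algebraMap V L) := by
  obtain ⟨p, hp, hpy⟩ := hy
  induction hn : p.natDegree using Nat.strong_induction_on generalizing p with
  | _ n ih =>
    rcases eq_or_ne n 0 with rfl | hn0
    · rw [hp.natDegree_eq_zero.mp hn, eval₂_one] at hpy
      exact absurd hpy one_ne_zero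
    haveI : Nontrivial V := (algebraMap V L).domain_nontrivial
    obtain ⟨a, ha⟩ := hV p hp (hn ▸ hn0)
    obtain ⟨q, rfl⟩ := dvd_iff_isRoot.mpr ha
    have hq : q.Monic := (monic_X_sub_C a).of_mul_monic_left hp
    rw [eval₂_mul, eval₂_sub, eval₂_X, eval₂_C, mul_eq_zero, sub_eq_zero] at hpy
    rcases hpy with h | h
    · exact ⟨a, h.symm⟩
    · refine ih q.natDegree ?_ q hq h rfl
      rw [← hn, (monic_X_sub_C a).natDegree_mul hq, natDegree_X_sub_C]
      omega

/-- A domain with roots is integrally closed. -/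
theorem HasRoots.isIntegrallyClosed {V : Type u} [CommRing V] [IsDomain V] (hV : HasRoots V) :
    IsIntegrallyClosed V :=
  (isIntegrallyClosed_iff (FractionRing V)).mpr fun hy => hV.mem_range hy

/-- Polynomial rings over integrally closed domains are integrally closed. -/
theorem isIntegrallyClosed_mvPolynomial (R : Type u) [CommRing R] [IsDomain R] [IsIntegrallyClosed R] :
    ∀ d : ℕ, IsIntegrallyClosed (MvPolynomial (Fin d) R)
  | 0 => IsIntegrallyClosed.of_equiv (MvPolynomial.isEmptyAlgEquiv R (Fin 0)).toRingEquiv.symm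
  | d + 1 =>
    haveI := isIntegrallyClosed_mvPolynomial R d
    IsIntegrallyClosed.of_equiv (MvPolynomial.finSuccEquiv R d).toRingEquiv.symm

variable {V C : Type u} [CommRing V] [CommRing C] [Algebra V C]

/-- Lifting Noether normalisation of the closed fibre. -/
theorem exists_lift_noether [IsLocalRing V] [Algebra.FiniteType V C]
    [Nontrivial (IsLocalRing.ResidueField V ⊗[V] C)] :
    ∃ (d : ℕ) (g : MvPolynomial (Fin d) (IsLocalRing.ResidueField V) →ₐ[IsLocalRing.ResidueField V]
      IsLocalRing.ResidueField V ⊗[V] C) (φ : MvPolynomial (Fin d) V →ₐ[V] C),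
      Function.Injective g ∧ g.Finite ∧
      ∀ p, g (MvPolynomial.map (IsLocalRing.residue V) p) = 1 ⊗ₜ φ p := by
  obtain ⟨d, g, hg, hgf⟩ := exists_finite_inj_algHom_of_fg (IsLocalRing.ResidueField V)
    (IsLocalRing.ResidueField V ⊗[V] C)
  have hs : Function.Surjective (TensorProduct.mk V (IsLocalRing.ResidueField V) C 1) :=
    TensorProduct.mk_surjective V C _ IsLocalRing.residue_surjective
  choose t ht using fun i => hs (g (MvPolynomial.X i))
  refine ⟨d, g, MvPolynomial.aeval t, hg, hgf, fun p => ?_⟩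
  induction p using MvPolynomial.induction_on with
  | C a =>
    rw [MvPolynomial.map_C, MvPolynomial.aeval_C, ← MvPolynomial.algebraMap_eq, g.commutes,
      Algebra.algebraMap_eq_smul_one, Algebra.algebraMap_eq_smul_one, tmul_smul, ← Algebra.TensorProduct.one_def]
    exact algebraMap_smul (IsLocalRing.ResidueField V) a _
  | add p q hp hq => simp only [map_add, hp, hq, tmul_add]
  | mul_X p i hp =>
    simp only [map_mul, MvPolynomial.map_X, MvPolynomial.aeval_X, hp, ← ht i]
    simp

/-- A prime of `C` where the lifted polynomial map is injective, and a closed point over the origin. -/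
theorem exists_primes [IsLocalRing V] [IsDomain V] [Module.Flat V C] {d : ℕ}
    (g : MvPolynomial (Fin d) (IsLocalRing.ResidueField V) →ₐ[IsLocalRing.ResidueField V]
      IsLocalRing.ResidueField V ⊗[V] C) (φ : MvPolynomial (Fin d) V →ₐ[V] C)
    (hg : Function.Injective g) (hgf : g.Finite)
    (hφ : ∀ p, g (MvPolynomial.map (IsLocalRing.residue V) p) = 1 ⊗ₜ φ p) :
    ∃ ζ w : Ideal C, ζ.IsPrime ∧ w.IsPrime ∧ ζ ≤ w ∧ ζ.comap φ.toRingHom = ⊥ ∧
      w.comap φ.toRingHom =
        RingHom.ker ((IsLocalRing.residue V).comp (MvPolynomial.constantCoeff (σ := Fin d) (R := V))) := by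
  letI := g.toRingHom.toAlgebra
  haveI : Module.Finite (MvPolynomial (Fin d) (IsLocalRing.ResidueField V)) (IsLocalRing.ResidueField V ⊗[V] C) := hgf
  obtain ⟨ηb, hηb, hηc⟩ := Ideal.exists_comap_eq_of_mem_minimalPrimes_of_injective (f := g.toRingHom) hg ⊥
    (by rw [IsDomain.minimalPrimes_eq_singleton_bot]; rfl)
  haveI : (RingHom.ker (MvPolynomial.constantCoeff (σ := Fin d) (R := IsLocalRing.ResidueField V))).IsPrime :=
    RingHom.ker_isPrime _
  obtain ⟨Q, hQη, hQ, hQc⟩ := Ideal.exists_ideal_over_prime_of_isIntegral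
    (RingHom.ker (MvPolynomial.constantCoeff (σ := Fin d) (R := IsLocalRing.ResidueField V))) ηb
    (by rw [RingHom.algebraMap_toAlgebra, hηc]; exact bot_le)
  let ιC : C →ₐ[V] IsLocalRing.ResidueField V ⊗[V] C := Algebra.TensorProduct.includeRight
  let η : Ideal C := ηb.comap ιC.toRingHom
  haveI : η.IsPrime := inferInstance
  let Cη := Localization.AtPrime η
  haveI : Module.Flat V Cη := Module.Flat.trans V C Cη
  have hli : LinearIndependent V fun m : Fin d →₀ ℕ => algebraMap C Cη (φ (MvPolynomial.monomial m 1)) := by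
    refine Module.IsLocalRing.linearIndependent_of_flat _ ?_
    let θ : IsLocalRing.ResidueField V ⊗[V] C →ₐ[IsLocalRing.ResidueField V] ηb.ResidueField :=
      IsScalarTower.toAlgHom _ _ _
    let ψ : IsLocalRing.ResidueField V ⊗[V] Cη →ₐ[IsLocalRing.ResidueField V] ηb.ResidueField :=
      Algebra.TensorProduct.lift (Algebra.ofId _ _)
        (IsLocalization.liftAlgHom (M := η.primeCompl) (f := (θ.restrictScalars V).comp ιC) fun c =>
          isUnit_iff_ne_zero.mpr fun h => c.2 (show ιC c ∈ ηb from Ideal.algebraMap_residueField_eq_zero.mp h))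
        fun _ _ => .all _ _
    refine LinearIndependent.of_comp ψ.toLinearMap ?_
    have hb : LinearIndependent (IsLocalRing.ResidueField V)
        (fun m : Fin d →₀ ℕ => θ (g (MvPolynomial.monomial m 1))) := by
      refine (MvPolynomial.basisMonomials (Fin d) (IsLocalRing.ResidueField V)).linearIndependent.map'
        (θ.comp g).toLinearMap (LinearMap.ker_eq_bot.mpr ?_)
      refine (injective_iff_map_eq_zero (θ.comp g)).mpr fun p hp => ?_
      have hm : g p ∈ ηb := Ideal.algebraMap_residueField_eq_zero.mp hp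
      have : p ∈ ηb.comap g.toRingHom := hm
      rwa [hηc] at this
    convert hb using 1
    case e'_7 => exact Module.ext' _ _ fun r x => by rw [Algebra.smul_def]
    funext m
    have hm := hφ (MvPolynomial.monomial m 1)
    rw [MvPolynomial.map_monomial, map_one] at hm
    rw [hm]
    show ψ ((1 : IsLocalRing.ResidueField V) ⊗ₜ[V] algebraMap C Cη (φ (MvPolynomial.monomial m 1))) = _
    rw [Algebra.TensorProduct.lift_tmul, map_one, one_mul]
    exact IsLocalization.lift_eq _ _
  have hinj : Function.Injective ((algebraMap C Cη).comp φ.toRingHom) := by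
    refine (injective_iff_map_eq_zero _).mpr fun p hp => MvPolynomial.ext _ _ fun m => ?_
    by_cases hm : m ∈ p.support
    · rw [MvPolynomial.coeff_zero]
      refine linearIndependent_iff'.mp hli p.support (fun m => p.coeff m) ?_ m hm
      refine Eq.trans ?_ hp
      conv_rhs => rw [p.as_sum, map_sum]
      refine Finset.sum_congr rfl fun n _ => ?_
      show p.coeff n • algebraMap C Cη (φ _) = algebraMap C Cη (φ _)
      rw [Algebra.smul_def, IsScalarTower.algebraMap_apply V C Cη, ← map_mul, ← φ.commutes, ← map_mul,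
        MvPolynomial.algebraMap_eq, MvPolynomial.C_mul_monomial, mul_one]
    · rw [MvPolynomial.coeff_zero, MvPolynomial.notMem_support_iff.mp hm]
  obtain ⟨ζ', hζ', hζc⟩ := Ideal.exists_comap_eq_of_mem_minimalPrimes_of_injective hinj ⊥
    (by rw [IsDomain.minimalPrimes_eq_singleton_bot]; rfl)
  refine ⟨ζ'.comap (algebraMap C Cη), Q.comap ιC.toRingHom, inferInstance, inferInstance, ?_, hζc, ?_⟩
  · refine le_trans ?_ (Ideal.comap_mono hQη)
    intro x hx
    by_contra h
    exact hζ'.ne_top (Ideal.eq_top_of_isUnit_mem _ hx (IsLocalization.map_units Cη (⟨x, h⟩ : η.primeCompl)))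
  · ext p
    rw [Ideal.mem_comap, Ideal.mem_comap]
    show (1 : IsLocalRing.ResidueField V) ⊗ₜ φ p ∈ Q ↔ _
    rw [← hφ]
    show MvPolynomial.map (IsLocalRing.residue V) p ∈ Q.comap g.toRingHom ↔ _
    rw [show g.toRingHom = algebraMap (MvPolynomial (Fin d) (IsLocalRing.ResidueField V)) _ from rfl, hQc,
      RingHom.mem_ker, RingHom.mem_ker, RingHom.comp_apply, MvPolynomial.constantCoeff_map]

/-- Quasi-finiteness over the origin. -/
theorem quasiFiniteAt_origin [IsLocalRing V] [Algebra.FiniteType V C] {d : ℕ}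
    (g : MvPolynomial (Fin d) (IsLocalRing.ResidueField V) →ₐ[IsLocalRing.ResidueField V]
      IsLocalRing.ResidueField V ⊗[V] C) [Algebra (MvPolynomial (Fin d) V) C]
    [IsScalarTower V (MvPolynomial (Fin d) V) C] (hgf : g.Finite)
    (hφ : ∀ p, g (MvPolynomial.map (IsLocalRing.residue V) p) = 1 ⊗ₜ algebraMap (MvPolynomial (Fin d) V) C p)
    (w : Ideal C) [w.IsPrime]
    (hw : w.comap (algebraMap (MvPolynomial (Fin d) V) C) =
      RingHom.ker ((IsLocalRing.residue V).comp (MvPolynomial.constantCoeff (σ := Fin d) (R := V)))) :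
    Algebra.QuasiFiniteAt (MvPolynomial (Fin d) V) w := by
  classical
  let M0 := w.under (MvPolynomial (Fin d) V)
  haveI : Algebra.FiniteType (MvPolynomial (Fin d) V) C := .of_restrictScalars_finiteType V _ _
  letI := g.toRingHom.toAlgebra
  haveI : Module.Finite (MvPolynomial (Fin d) (IsLocalRing.ResidueField V)) (IsLocalRing.ResidueField V ⊗[V] C) := hgf
  obtain ⟨n, b, hb⟩ := Module.Finite.exists_fin (R := MvPolynomial (Fin d) (IsLocalRing.ResidueField V))
    (M := IsLocalRing.ResidueField V ⊗[V] C)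
  choose c hc using fun i => TensorProduct.mk_surjective V C (IsLocalRing.ResidueField V)
    IsLocalRing.residue_surjective (b i)
  have hgen : ∀ x : C, (1 : M0.ResidueField) ⊗ₜ[MvPolynomial (Fin d) V] x ∈
      Submodule.span M0.ResidueField (Set.range fun i => (1 : M0.ResidueField) ⊗ₜ[MvPolynomial (Fin d) V] c i) := by
    intro x
    obtain ⟨q, hq⟩ := (Submodule.mem_span_range_iff_exists_fun _).mp
      (hb ▸ Submodule.mem_top : (1 : IsLocalRing.ResidueField V) ⊗ₜ[V] x ∈ Submodule.span _ (Set.range b))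
    choose p hp using fun i => MvPolynomial.map_surjective (IsLocalRing.residue V) IsLocalRing.residue_surjective (q i)
    have hker : x - ∑ i, p i • c i ∈ (IsLocalRing.maximalIdeal V).map (algebraMap V C) := by
      rw [← Ideal.Quotient.eq_zero_iff_mem,
        ← map_eq_zero_iff _ (Algebra.TensorProduct.quotIdealMapEquivQuotTensor C (IsLocalRing.maximalIdeal V)).injective,
        Algebra.TensorProduct.quotIdealMapEquivQuotTensor_mk]
      show (1 : IsLocalRing.ResidueField V) ⊗ₜ[V] (x - ∑ i, p i • c i) = 0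
      rw [tmul_sub, ← hq, tmul_sum, sub_eq_zero]
      refine Finset.sum_congr rfl fun i _ => ?_
      rw [← hp, Algebra.smul_def, Algebra.smul_def, RingHom.algebraMap_toAlgebra, ← hc i]
      show g (MvPolynomial.map _ (p i)) * (1 ⊗ₜ[V] c i) = _
      rw [hφ, Algebra.TensorProduct.tmul_mul_tmul, mul_one]
    have hzero : ∀ y ∈ (IsLocalRing.maximalIdeal V).map (algebraMap V C),
        (1 : M0.ResidueField) ⊗ₜ[MvPolynomial (Fin d) V] y = 0 := by
      intro y hy
      induction hy using Submodule.span_induction with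
      | mem z hz =>
        obtain ⟨a, ha, rfl⟩ := hz
        rw [IsScalarTower.algebraMap_apply V (MvPolynomial (Fin d) V) C, Algebra.algebraMap_eq_smul_one, ← smul_tmul,
          show algebraMap V (MvPolynomial (Fin d) V) a • (1 : M0.ResidueField) = 0 by
            rw [← Algebra.algebraMap_eq_smul_one, Ideal.algebraMap_residueField_eq_zero]
            show algebraMap V (MvPolynomial (Fin d) V) a ∈ w.comap (algebraMap (MvPolynomial (Fin d) V) C)
            rw [hw]
            simpa [RingHom.mem_ker, MvPolynomial.algebraMap_eq] using ha,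
          zero_tmul]
      | zero => exact tmul_zero _ _
      | add x y _ _ hx hy => rw [tmul_add, hx, hy, add_zero]
      | smul r z _ hz =>
        rw [smul_eq_mul, show (1 : M0.ResidueField) ⊗ₜ[MvPolynomial (Fin d) V] (r * z) =
          ((1 : M0.ResidueField) ⊗ₜ[MvPolynomial (Fin d) V] r) * (1 ⊗ₜ z) by simp, hz, mul_zero]
    have h := hzero _ hker
    rw [tmul_sub, sub_eq_zero] at h
    rw [h, tmul_sum]
    refine Submodule.sum_mem _ fun i _ => ?_
    rw [tmul_smul, ← algebraMap_smul M0.ResidueField]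
    exact Submodule.smul_mem _ _ (Submodule.subset_span ⟨i, rfl⟩)
  haveI : Module.Finite M0.ResidueField (M0.Fiber C) := by
    refine ⟨Submodule.fg_def.mpr ⟨_, Set.finite_range fun i => (1 : M0.ResidueField) ⊗ₜ[MvPolynomial (Fin d) V] c i,
      eq_top_iff.mpr fun z _ => ?_⟩⟩
    induction z using TensorProduct.induction_on with
    | zero => exact zero_mem _
    | add x y hx hy => exact add_mem (hx trivial) (hy trivial)
    | tmul a x =>
      rw [show a ⊗ₜ[MvPolynomial (Fin d) V] x = a • ((1 : M0.ResidueField) ⊗ₜ[MvPolynomial (Fin d) V] x) by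
        rw [smul_tmul', smul_eq_mul, mul_one]]
      exact Submodule.smul_mem _ _ (hgen x)
  let e := PrimeSpectrum.preimageEquivFiber (MvPolynomial (Fin d) V) C ⟨M0, inferInstance⟩
  let wp : PrimeSpectrum.comap (algebraMap (MvPolynomial (Fin d) V) C) ⁻¹' {⟨M0, inferInstance⟩} :=
    ⟨⟨w, inferInstance⟩, rfl⟩
  exact Algebra.QuasiFiniteAt.of_quasiFiniteAt_residueField M0 w (e wp).asIdeal
    congr($(e.symm_apply_apply wp).1.asIdeal)

/-- A point over the closed fibre lifts to a section. -/
theorem nonempty_algHom_of_hasRoots [IsLocalRing V] [IsDomain V] (hV : HasRoots V) [Module.Flat V C]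
    [Algebra.FiniteType V C] [Nontrivial (IsLocalRing.ResidueField V ⊗[V] C)] : Nonempty (C →ₐ[V] V) := by
  obtain ⟨d, g, φ, hg, hgf, hφ⟩ := exists_lift_noether (V := V) (C := C)
  obtain ⟨ζ, w, hζ, hw, hζw, hζc, hwc⟩ := exists_primes g φ hg hgf hφ
  letI := φ.toRingHom.toAlgebra
  haveI : IsScalarTower V (MvPolynomial (Fin d) V) C := .of_algebraMap_eq fun a => (φ.commutes a).symm
  haveI := quasiFiniteAt_origin g hgf hφ w hwc
  haveI : Algebra.FiniteType (MvPolynomial (Fin d) V) C := .of_restrictScalars_finiteType V _ _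
  obtain ⟨r, hrw, hr⟩ := Algebra.zariskisMainProperty_iff'.mp
    (Algebra.ZariskisMainProperty.of_finiteType (R := MvPolynomial (Fin d) V) w)
  -- the domain `D` through both points
  let D := C ⧸ ζ
  let mkD : C →ₐ[MvPolynomial (Fin d) V] D := Ideal.Quotient.mkₐ _ ζ
  have hinjD : Function.Injective (algebraMap (MvPolynomial (Fin d) V) D) := by
    refine (injective_iff_map_eq_zero _).mpr fun p hp => ?_
    have hm : φ p ∈ ζ := Ideal.Quotient.eq_zero_iff_mem.mp hp
    have : p ∈ ζ.comap φ.toRingHom := hm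
    rwa [hζc] at this
  let wD : Ideal D := w.map (Ideal.Quotient.mk ζ)
  haveI : wD.IsPrime := Ideal.map_isPrime_of_surjective Ideal.Quotient.mk_surjective (by rwa [Ideal.mk_ker])
  have hwD : wD.comap (Ideal.Quotient.mk ζ) = w := by
    rw [Ideal.comap_map_of_surjective _ Ideal.Quotient.mk_surjective, ← RingHom.ker_eq_comap_bot, Ideal.mk_ker,
      sup_eq_left.mpr hζw]
  let S' := integralClosure (MvPolynomial (Fin d) V) D
  haveI : FaithfulSMul (MvPolynomial (Fin d) V) S' := (faithfulSMul_iff_algebraMap_injective _ _).mpr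
    fun a b h => hinjD (congrArg Subtype.val h)
  haveI := hV.isIntegrallyClosed
  haveI := isIntegrallyClosed_mvPolynomial V d
  let Q : Ideal S' := wD.comap S'.val.toRingHom
  let M0 : Ideal (MvPolynomial (Fin d) V) :=
    RingHom.ker ((IsLocalRing.residue V).comp (MvPolynomial.constantCoeff (σ := Fin d) (R := V)))
  let o0 : Ideal (MvPolynomial (Fin d) V) := RingHom.ker (MvPolynomial.constantCoeff (σ := Fin d) (R := V))
  haveI : M0.IsPrime := RingHom.ker_isPrime _
  haveI : o0.IsPrime := RingHom.ker_isPrime _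
  haveI : Q.LiesOver M0 := ⟨by
    show M0 = (wD.comap S'.val.toRingHom).comap (algebraMap (MvPolynomial (Fin d) V) S')
    rw [Ideal.comap_comap]
    show M0 = wD.comap ((Ideal.Quotient.mk ζ).comp φ.toRingHom)
    rw [← Ideal.comap_comap, hwD, hwc]⟩
  obtain ⟨P', hP'Q, hP', hP'o⟩ := Ideal.exists_ideal_le_liesOver_of_le (p := o0) (q := M0) Q
    fun p hp => by simp only [o0, M0, RingHom.mem_ker, RingHom.comp_apply] at hp ⊢; rw [hp, map_zero]
  let r' : S' := ⟨mkD r, by
    obtain ⟨n, hn⟩ := hr r
    rw [← pow_succ] at hn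
    exact ((IsIntegral.pow_iff n.succ_pos).mp hn).map mkD⟩
  have hr' : r' ∉ P' := fun h => hrw (by rw [← hwD]; exact hP'Q h)
  have hlift : ∀ x : D, ∃ m : ℕ, ∃ y : S', (y : D) = mkD r ^ m * x := by
    intro x
    obtain ⟨x, rfl⟩ := Ideal.Quotient.mk_surjective x
    obtain ⟨m, hm⟩ := hr x
    exact ⟨m, ⟨_, hm.map mkD⟩, by simp only [map_mul, map_pow]; rfl⟩
  have hdis : Disjoint ((P'.map S'.val.toRingHom : Ideal D) : Set D) (P'.primeCompl.map S'.val.toRingHom) := by
    rw [Set.disjoint_left]
    rintro _ hx ⟨s, hs, rfl⟩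
    have key : ∀ z ∈ P'.map S'.val.toRingHom, ∃ m : ℕ, ∃ y ∈ P', (y : D) = mkD r ^ m * z := by
      intro z hz
      induction hz using Submodule.span_induction with
      | mem z hz => obtain ⟨y, hy, rfl⟩ := hz; exact ⟨0, y, hy, by simp⟩
      | zero => exact ⟨0, 0, zero_mem _, by simp⟩
      | add a b _ _ ha hb =>
        obtain ⟨m, y, hy, hym⟩ := ha
        obtain ⟨n, z, hz, hzn⟩ := hb
        refine ⟨m + n, r' ^ n * y + r' ^ m * z, add_mem (Ideal.mul_mem_left _ _ hy) (Ideal.mul_mem_left _ _ hz), ?_⟩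
        push_cast
        rw [hym, hzn]
        ring
      | smul c a _ ha =>
        obtain ⟨m, y, hy, hym⟩ := ha
        obtain ⟨n, z, hzn⟩ := hlift c
        refine ⟨n + m, z * y, Ideal.mul_mem_left _ _ hy, ?_⟩
        push_cast
        rw [hym, hzn, smul_eq_mul]
        ring
    obtain ⟨m, y, hy, hym⟩ := key _ hx
    have : y = r' ^ m * s := Subtype.ext (by push_cast; exact hym)
    exact (hP'.mem_or_mem (this ▸ hy)).elim (fun h => hr' (hP'.mem_of_pow_mem _ h)) hs
  obtain ⟨P, hP, hP'P, hPdis⟩ := Ideal.exists_le_prime_disjoint _ _ hdis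
  have hPP' : ∀ y : S', (y : D) ∈ P → y ∈ P' := fun y hy =>
    by_contra fun h => Set.disjoint_left.mp hPdis hy ⟨y, h, rfl⟩
  have hPw : P ≤ wD := by
    intro x hx
    obtain ⟨m, y, hy⟩ := hlift x
    have h1 : (y : D) ∈ wD := hP'Q (hPP' y (hy ▸ Ideal.mul_mem_left _ _ hx))
    rw [hy] at h1
    refine (‹wD.IsPrime›.mem_or_mem h1).resolve_left fun h => hrw ?_
    rw [← hwD]
    exact ‹wD.IsPrime›.mem_of_pow_mem _ h
  -- the section
  let E := D ⧸ P
  let mkE : C →ₐ[MvPolynomial (Fin d) V] E := (Ideal.Quotient.mkₐ _ P).comp mkD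
  have hconst : algebraMap (MvPolynomial (Fin d) V) E = (algebraMap V E).comp MvPolynomial.constantCoeff := by
    refine MvPolynomial.ringHom_ext (fun a => ?_) fun i => ?_
    · rw [RingHom.comp_apply, MvPolynomial.constantCoeff_C, ← MvPolynomial.algebraMap_eq,
        ← IsScalarTower.algebraMap_apply]
    · rw [RingHom.comp_apply, MvPolynomial.constantCoeff_X, map_zero]
      refine Ideal.Quotient.eq_zero_iff_mem.mpr ?_
      have h : algebraMap (MvPolynomial (Fin d) V) S' (MvPolynomial.X i) ∈ P' :=
        (Ideal.mem_of_liesOver P' o0 _).mp (by simp [o0])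
      exact hP'P (Ideal.mem_map_of_mem S'.val.toRingHom h)
  have hint : ∀ z : E, IsIntegral (MvPolynomial (Fin d) V) z → z ∈ Set.range (algebraMap V E) := fun z ⟨p, hp, hpz⟩ =>
    hV.mem_range ⟨p.map MvPolynomial.constantCoeff, hp.map _, by rwa [eval₂_map, ← hconst]⟩
  obtain ⟨u, hu⟩ := hint (mkE r) ((show IsIntegral (MvPolynomial (Fin d) V) (mkD r) from r'.2).map (Ideal.Quotient.mkₐ (MvPolynomial (Fin d) V) P))
  have huU : IsUnit u := by
    by_contra h
    have hm : algebraMap V C u ∈ w := by
      have : MvPolynomial.C u ∈ w.comap φ.toRingHom := by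
        rw [hwc]
        simpa [RingHom.mem_ker] using h
      rwa [Ideal.mem_comap, ← MvPolynomial.algebraMap_eq, AlgHom.toRingHom_eq_coe, RingHom.coe_coe, φ.commutes] at this
    have hd : Ideal.Quotient.mk ζ (r - algebraMap V C u) ∈ P := by
      rw [← Ideal.Quotient.eq_zero_iff_mem, map_sub, map_sub, sub_eq_zero]
      exact hu.symm
    have : r - algebraMap V C u ∈ w := by rw [← hwD]; exact hPw hd
    exact hrw (by simpa using add_mem this hm)
  have hsurj : Function.Surjective (algebraMap V E) := by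
    intro z
    obtain ⟨z, rfl⟩ := Ideal.Quotient.mk_surjective z
    obtain ⟨x, rfl⟩ := Ideal.Quotient.mk_surjective z
    obtain ⟨m, hm⟩ := hr x
    obtain ⟨v, hv⟩ := hint _ (hm.map mkE)
    rw [map_mul mkE, map_pow mkE, ← hu] at hv
    refine ⟨↑(huU.pow m).unit⁻¹ * v, ?_⟩
    rw [map_mul, hv, ← map_pow, ← mul_assoc, ← map_mul, (huU.pow m).val_inv_mul, map_one, one_mul]
    rfl
  have hinjE : Function.Injective (algebraMap V E) := by
    refine (injective_iff_map_eq_zero _).mpr fun v hv => ?_
    rw [IsScalarTower.algebraMap_apply V (MvPolynomial (Fin d) V) E] at hv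
    have h1 : algebraMap (MvPolynomial (Fin d) V) S' (algebraMap V _ v) ∈ P' :=
      hPP' _ (Ideal.Quotient.eq_zero_iff_mem.mp hv)
    have h2 : algebraMap V (MvPolynomial (Fin d) V) v ∈ o0 := (Ideal.mem_of_liesOver P' o0 _).mpr h1
    simpa [o0, MvPolynomial.algebraMap_eq] using h2
  let e : V ≃ₐ[V] E := AlgEquiv.ofBijective (Algebra.ofId V E) ⟨hinjE, hsurj⟩
  exact ⟨e.symm.toAlgHom.comp (mkE.restrictScalars V)⟩

end Groth.Agent.AICPoint
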