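import Mathlib
import Groth.Agent.AICPoint.Root

/-!
# Integral closures in products of algebraically closed fields
-/

universe u v

namespace Groth.Agent.AICPoint

open Polynomial

/-- A ring in which, with the product of algebraically closed fields as overring, all integral elements lie:
idempotents included. -/
theorem localization_isDomain {ι : Type v} {K : ι → Type v} [∀ i, Field (K i)] {B : Type v} [CommRing B]
    (ev : B →+* ∀ i, K i) (hev : Function.Injective ev)
    (hint : ∀ z, ev.IsIntegralElem z → ∃ b, ev b = z) (P : Ideal B) [P.IsPrime] :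
    IsDomain (Localization.AtPrime P) := by
  classical
  haveI : Nontrivial B :=
    ⟨0, 1, fun h => ‹P.IsPrime›.ne_top ((Ideal.eq_top_iff_one _).mpr (h ▸ zero_mem _))⟩
  have key : ∀ a b : B, a * b = 0 → ∃ c ∉ P, c * a = 0 ∨ c * b = 0 := by
    intro a b hab
    let s : ∀ i, K i := fun i => if ev a i = 0 then 0 else 1
    obtain ⟨e, he⟩ := hint s ⟨X ^ 2 - X, monic_X_pow_sub (by rw [degree_X]; decide), by
      funext i
      simp only [eval₂_sub, eval₂_pow, eval₂_X, Pi.sub_apply, Pi.pow_apply, Pi.zero_apply, s]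
      split_ifs <;> simp⟩
    by_cases heP : e ∈ P
    · refine ⟨1 - e, fun h => ‹P.IsPrime›.ne_top ((Ideal.eq_top_iff_one _).mpr (by simpa using add_mem h heP)),
        Or.inl (hev ?_)⟩
      funext i
      simp only [map_mul, map_sub, map_one, he, map_zero, Pi.mul_apply, Pi.sub_apply, Pi.one_apply, Pi.zero_apply, s]
      split_ifs with h <;> simp [h]
    · refine ⟨e, heP, Or.inr (hev ?_)⟩
      funext i
      have hi : ev a i * ev b i = 0 := by rw [← Pi.mul_apply, ← map_mul, hab, map_zero]; rfl
      simp only [map_mul, he, map_zero, Pi.mul_apply, Pi.zero_apply, s]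
      split_ifs with h
      · simp
      · rw [(mul_eq_zero.mp hi).resolve_left h, mul_zero]
  haveI : Nontrivial (Localization.AtPrime P) := inferInstance
  refine @NoZeroDivisors.to_isDomain _ _ _ ⟨fun {x y} hxy => ?_⟩
  obtain ⟨a, s, rfl⟩ := IsLocalization.exists_mk'_eq P.primeCompl x
  obtain ⟨b, t, rfl⟩ := IsLocalization.exists_mk'_eq P.primeCompl y
  rw [← IsLocalization.mk'_mul, IsLocalization.mk'_eq_zero_iff] at hxy
  obtain ⟨c, hc⟩ := hxy
  obtain ⟨d, hd, hdd⟩ := key (c * a) b (by rw [mul_assoc]; exact hc)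
  rcases hdd with h | h
  · exact Or.inl ((IsLocalization.mk'_eq_zero_iff _ _).mpr ⟨⟨d, hd⟩ * c, by push_cast; rwa [mul_assoc]⟩)
  · exact Or.inr ((IsLocalization.mk'_eq_zero_iff _ _).mpr ⟨⟨d, hd⟩, h⟩)

/-- The local rings have roots. -/
theorem localization_hasRoots {ι : Type v} {K : ι → Type v} [∀ i, Field (K i)] [∀ i, IsAlgClosed (K i)] {B : Type v}
    [CommRing B] (ev : B →+* ∀ i, K i) (hint : ∀ z, ev.IsIntegralElem z → ∃ b, ev b = z)
    (hev : Function.Injective ev) (P : Ideal B) [P.IsPrime] : HasRoots (Localization.AtPrime P) := by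
  classical
  intro q hq hdeg
  haveI : Nontrivial (Localization.AtPrime P) := inferInstance
  obtain ⟨⟨c, hc⟩, hcq⟩ := IsLocalization.exist_integer_multiples P.primeCompl (Finset.range (q.natDegree + 1)) q.coeff
  have hlifts : q.scaleRoots (algebraMap B _ c) ∈ Polynomial.lifts (algebraMap B (Localization.AtPrime P)) := by
    rw [lifts_iff_coeffs_subset_range]
    intro z hz
    obtain ⟨i, hi, rfl⟩ := mem_coeffs_iff.mp hz
    have hi' : i ≤ q.natDegree := natDegree_scaleRoots q _ ▸ le_natDegree_of_mem_supp i hi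
    rw [coeff_scaleRoots]
    rcases eq_or_lt_of_le hi' with rfl | hlt
    · exact ⟨1, by simp [hq.coeff_natDegree]⟩
    obtain ⟨b, hb⟩ := hcq i (Finset.mem_range.mpr (by omega))
    obtain ⟨k, hk⟩ : ∃ k, q.natDegree - i = k + 1 := ⟨_, (Nat.sub_add_cancel (Nat.sub_pos_of_lt hlt)).symm⟩
    refine ⟨b * c ^ k, ?_⟩
    rw [map_mul, map_pow, hb, hk, pow_succ, Algebra.smul_def]
    ring
  obtain ⟨Q, hQ, hQdeg, hQm⟩ := lifts_and_natDegree_eq_and_monic hlifts ((monic_scaleRoots_iff _).mpr hq)
  have hroot : ∀ i, ∃ z : K i, (Q.map ((Pi.evalRingHom K i).comp ev)).eval z = 0 := fun i =>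
    IsAlgClosed.exists_root _ (by
      rw [degree_eq_natDegree (hQm.map _).ne_zero, hQm.natDegree_map, hQdeg, natDegree_scaleRoots]
      exact_mod_cast hdeg)
  choose z hz using hroot
  obtain ⟨b, hb⟩ := hint z ⟨Q, hQm, by
    funext i
    have := hz i
    rw [eval_map] at this
    exact (Polynomial.hom_eval₂ Q ev (Pi.evalRingHom K i) z).trans this⟩
  have hQb : Q.eval b = 0 := hev (by
    funext i
    have h := hz i
    rw [eval_map, ← hb] at h
    rw [map_zero]
    refine Eq.trans ?_ h
    rw [show (Pi.evalRingHom K i).comp ev = ((Pi.evalRingHom K i).comp ev) from rfl]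
    exact Polynomial.hom_eval₂ Q (RingHom.id B) ((Pi.evalRingHom K i).comp ev) b)
  obtain ⟨u, hu⟩ := IsLocalization.map_units (Localization.AtPrime P) (⟨c, hc⟩ : P.primeCompl)
  refine ⟨↑u⁻¹ * algebraMap B _ b, ?_⟩
  have h1 := congrArg (algebraMap B (Localization.AtPrime P)) hQb
  rw [map_zero, ← eval₂_at_apply, ← eval_map, hQ,
    show algebraMap B (Localization.AtPrime P) b = algebraMap B _ c * (↑u⁻¹ * algebraMap B _ b) by
      rw [← mul_assoc, ← hu, Units.mul_inv, one_mul],
    eval] at h1
  have h2 := scaleRoots_eval₂_mul (p := q) (RingHom.id (Localization.AtPrime P)) (↑u⁻¹ * algebraMap B _ b)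
    (algebraMap B (Localization.AtPrime P) c)
  simp only [RingHom.id_apply] at h2
  rw [h2] at h1
  exact ((hu ▸ u.isUnit : IsUnit (algebraMap B (Localization.AtPrime P) c)).pow q.natDegree).mul_right_eq_zero.mp h1

/-- An algebra map to a localisation at a prime extends to a basic open. -/
theorem exists_away_algHom {A B C : Type u} [CommRing A] [CommRing B] [CommRing C] [Algebra A B] [Algebra A C]
    [Algebra.FinitePresentation A C] (P : Ideal B) [P.IsPrime] (h : C →ₐ[A] Localization.AtPrime P) :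
    ∃ c ∉ P, Nonempty (C →ₐ[A] Localization.Away c) := by
  classical
  obtain ⟨n, f, hf, hker⟩ := (inferInstance : Algebra.FinitePresentation A C).out
  obtain ⟨⟨c, hc⟩, hcb⟩ := IsLocalization.exist_integer_multiples_of_finite P.primeCompl (fun i => h (f (MvPolynomial.X i)))
  choose b hb using hcb
  let φ : MvPolynomial (Fin n) A →ₐ[A] Localization.Away c :=
    MvPolynomial.aeval fun i => IsLocalization.mk' (M := Submonoid.powers c) _ (b i) ⟨c, Submonoid.mem_powers c⟩
  let ρ : Localization.Away c →ₐ[A] Localization.AtPrime P :=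
    IsLocalization.liftAlgHom (M := Submonoid.powers c) (f := IsScalarTower.toAlgHom A B (Localization.AtPrime P))
      (by rintro ⟨_, k, rfl⟩
          exact IsLocalization.map_units (Localization.AtPrime P) (⟨c ^ k, P.primeCompl.pow_mem hc k⟩ : P.primeCompl))
  have hρ : ∀ z, ρ (algebraMap B (Localization.Away c) z) = algebraMap B (Localization.AtPrime P) z :=
    fun z => IsLocalization.lift_eq _ z
  have hρφ : ρ.comp φ = h.comp f := MvPolynomial.algHom_ext fun i => by
    simp only [φ, AlgHom.comp_apply, MvPolynomial.aeval_X]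
    refine (IsLocalization.map_units (Localization.AtPrime P) (⟨c, hc⟩ : P.primeCompl)).mul_left_cancel ?_
    have h2 := congrArg ρ (IsLocalization.mk'_spec' (M := Submonoid.powers c) (Localization.Away c) (b i) ⟨c, Submonoid.mem_powers c⟩)
    rw [map_mul, hρ, hρ, hb, Algebra.smul_def] at h2
    exact h2
  obtain ⟨G, hG⟩ := hker
  have hG0 : ∀ p : G, ∃ k ∉ P, algebraMap B (Localization.Away c) k * φ p.1 = 0 := by
    intro p
    obtain ⟨⟨z, ⟨_, m, rfl⟩⟩, hz⟩ := IsLocalization.surj (Submonoid.powers c) (φ p.1)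
    have hp : f p.1 = 0 := by
      have : p.1 ∈ RingHom.ker f.toRingHom := hG ▸ Ideal.subset_span p.2
      exact this
    have h0 : algebraMap B (Localization.AtPrime P) z = 0 := by
      rw [← hρ, ← hz, map_mul, ← AlgHom.comp_apply, hρφ, AlgHom.comp_apply, hp, map_zero, zero_mul]
    obtain ⟨⟨k, hk⟩, hkz⟩ := (IsLocalization.map_eq_zero_iff P.primeCompl _ _).mp h0
    refine ⟨k, hk, ((IsLocalization.map_units (Localization.Away c)
      (⟨c ^ m, m, rfl⟩ : Submonoid.powers c)).mul_left_eq_zero).mp ?_⟩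
    rw [mul_assoc, hz, ← map_mul]
    exact (congrArg _ hkz).trans (map_zero _)
  choose k hk hk0 using hG0
  let c' := c * ∏ p : G, k p
  have hc' : c' ∉ P := fun h => (‹P.IsPrime›.mem_or_mem h).elim hc fun h => by
    obtain ⟨p, -, hp⟩ := (Ideal.IsPrime.prod_mem_iff (p := P)).mp h
    exact hk p hp
  let ψ : Localization.Away c →ₐ[A] Localization.Away c' :=
    IsLocalization.liftAlgHom (M := Submonoid.powers c) (f := IsScalarTower.toAlgHom A B (Localization.Away c'))
      (by rintro ⟨_, l, rfl⟩
          rw [map_pow]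
          exact (isUnit_of_dvd_unit (_root_.map_dvd (algebraMap B (Localization.Away c')) (Dvd.intro _ rfl))
            (IsLocalization.Away.algebraMap_isUnit c')).pow l)
  have hψ : ∀ z, ψ (algebraMap B (Localization.Away c) z) = algebraMap B (Localization.Away c') z :=
    fun z => IsLocalization.lift_eq _ z
  refine ⟨c', hc', ⟨(Ideal.Quotient.liftₐ (RingHom.ker f) (ψ.comp φ) ?_).comp
    (Ideal.quotientKerAlgEquivOfSurjective hf).symm.toAlgHom⟩⟩
  suffices RingHom.ker f ≤ RingHom.ker (ψ.comp φ) from fun x hx => this hx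
  rw [show RingHom.ker f = RingHom.ker f.toRingHom from rfl, ← hG]
  refine Ideal.span_le.mpr fun p hp => ?_
  have hu : IsUnit (algebraMap B (Localization.Away c') (k ⟨p, hp⟩)) :=
    isUnit_of_dvd_unit (_root_.map_dvd _ (dvd_mul_of_dvd_right (Finset.dvd_prod_of_mem _ (Finset.mem_univ _)) c))
      (IsLocalization.Away.algebraMap_isUnit c')
  refine hu.mul_right_eq_zero.mp ?_
  rw [← hψ, AlgHom.comp_apply, ← map_mul, hk0 ⟨p, hp⟩, map_zero]

end Groth.Agent.AICPoint
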