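import Mathlib
import Groth.Agent.AICPoint.Product

/-!
# A surjective integral morphism with absolutely integrally closed local rings
-/

set_option backward.isDefEq.respectTransparency false

noncomputable section

universe u

namespace Groth.Agent.AICPoint

open CategoryTheory Limits AlgebraicGeometry TopologicalSpace Scheme.AffineZariskiSite

variable (S : Scheme.{u})

/-- The product of algebraically closed residue fields over an open. -/
abbrev ptsProd (U : S.Opens) : Type u := ∀ s : U, AlgebraicClosure (S.residueField s.1)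

/-- Evaluation at all points. -/
def evalPts (U : S.Opens) : Γ(S, U) →+* ptsProd S U :=
  Pi.ringHom fun s => (algebraMap (S.residueField s.1) (AlgebraicClosure (S.residueField s.1))).comp
    (S.evaluation U s.1 s.2).hom

/-- Restriction. -/
def resPts {U V : S.Opens} (h : U ≤ V) : ptsProd S V →+* ptsProd S U :=
  Pi.ringHom fun s => Pi.evalRingHom (fun s : V => AlgebraicClosure (S.residueField s.1)) ⟨s.1, h s.2⟩

lemma resPts_evalPts {U V : S.Opens} (h : U ≤ V) (a : Γ(S, V)) :
    resPts S h (evalPts S V a) = evalPts S U (S.presheaf.map (homOfLE h).op a) := by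
  funext s
  show algebraMap _ _ (S.evaluation V s.1 (h s.2) a) = algebraMap _ _ (S.evaluation U s.1 s.2 _)
  congr 1
  simp only [Scheme.evaluation, CommRingCat.comp_apply]
  rw [S.presheaf.germ_res_apply]

/-- Integral elements. -/
def intSub (U : S.Opens) : Subring (ptsProd S U) :=
  letI := (evalPts S U).toAlgebra
  (integralClosure Γ(S, U) (ptsProd S U)).toSubring

lemma mem_intSub {U : S.Opens} {z : ptsProd S U} : z ∈ intSub S U ↔ (evalPts S U).IsIntegralElem z := Iff.rfl

lemma evalPts_mem (U : S.Opens) (a : Γ(S, U)) : evalPts S U a ∈ intSub S U := (evalPts S U).isIntegralElem_map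

lemma resPts_mem {U V : S.Opens} (h : U ≤ V) {z : ptsProd S V} (hz : z ∈ intSub S V) :
    resPts S h z ∈ intSub S U := by
  obtain ⟨p, hp, hpz⟩ := hz
  refine ⟨p.map (S.presheaf.map (homOfLE h).op).hom, hp.map _, ?_⟩
  show Polynomial.eval₂ (evalPts S U) _ _ = 0
  rw [Polynomial.eval₂_map, show (evalPts S U).comp (S.presheaf.map (homOfLE h).op).hom = (resPts S h).comp (evalPts S V) from
    RingHom.ext fun a => (resPts_evalPts S h a).symm, ← Polynomial.hom_eval₂]
  exact (congrArg _ hpz).trans (map_zero _)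

/-- The presheaf of rings on the affine opens. -/
def diagram : S.AffineZariskiSiteᵒᵖ ⥤ CommRingCat.{u} where
  obj U := .of (intSub S U.unop.1)
  map {V U} i := CommRingCat.ofHom ((resPts S (toOpens_mono i.unop.le)).restrict _ _
    fun x hx => resPts_mem S (toOpens_mono i.unop.le) hx)
  map_id U := by
    ext x
    rfl
  map_comp i j := by
    ext x
    rfl

/-- The structure map. -/
def diagramMap : (toOpensFunctor S).op ⋙ S.presheaf ⟶ diagram S where
  app U := CommRingCat.ofHom ((evalPts S U.unop.1).codRestrict (intSub S U.unop.1)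
    fun a => evalPts_mem S U.unop.1 a)
  naturality {V U} i := by
    ext a
    apply Subtype.ext
    exact (resPts_evalPts S (toOpens_mono i.unop.le) a).symm

lemma coequifibered : (diagramMap S).Coequifibered := by
  classical
  refine coequifibered_iff_forall_isLocalizationAway.mpr fun U r => ?_
  let Ur : S.affineOpens := U.basicOpen r
  have hle : Ur.1 ≤ U.1 := S.basicOpen_le r
  letI : Algebra Γ(S, U.1) Γ(S, Ur.1) := (S.presheaf.map (homOfLE hle).op).hom.toAlgebra
  haveI : IsLocalization.Away r Γ(S, Ur.1) := U.2.isLocalization_basicOpen r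
  set r' : intSub S U.1 := ⟨evalPts S U.1 r, evalPts_mem S U.1 r⟩
  let ρ : intSub S U.1 →+* intSub S Ur.1 := (resPts S hle).restrict _ _ fun x hx => resPts_mem S hle hx
  show @IsLocalization.Away _ _ r' (intSub S Ur.1) _ ρ.toAlgebra
  letI := ρ.toAlgebra
  refine (isLocalization_iff _ _).mpr ⟨?_, ?_, ?_⟩
  · rintro ⟨_, k, rfl⟩
    show IsUnit (ρ (r' ^ k))
    rw [map_pow]
    refine IsUnit.pow k ?_
    have hu : IsUnit (algebraMap Γ(S, U.1) Γ(S, Ur.1) r) := IsLocalization.Away.algebraMap_isUnit r
    have := hu.map ((evalPts S Ur.1).codRestrict (intSub S Ur.1) fun a => evalPts_mem S Ur.1 a)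
    convert this using 1
    exact Subtype.ext (resPts_evalPts S hle r)
  · rintro ⟨z, hz⟩
    letI : Algebra Γ(S, Ur.1) (ptsProd S Ur.1) := (evalPts S Ur.1).toAlgebra
    letI : Algebra Γ(S, U.1) (ptsProd S Ur.1) :=
      ((evalPts S Ur.1).comp (algebraMap Γ(S, U.1) Γ(S, Ur.1))).toAlgebra
    haveI : IsScalarTower Γ(S, U.1) Γ(S, Ur.1) (ptsProd S Ur.1) := .of_algebraMap_eq' rfl
    obtain ⟨⟨_, k, rfl⟩, p, hp, hpe⟩ :=
      IsIntegral.exists_multiple_integral_of_isLocalization (Submonoid.powers r) (R := Γ(S, U.1)) (Rₘ := Γ(S, Ur.1)) z hz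
    let w : ptsProd S U.1 := fun s => if h : s.1 ∈ Ur.1 then
      (evalPts S U.1 r s) ^ k * z ⟨s.1, h⟩ else 0
    have hw : w ∈ intSub S U.1 := by
      refine ⟨Polynomial.X * p, Polynomial.monic_X.mul hp, funext fun s => ?_⟩
      show (Pi.evalRingHom _ s) (Polynomial.eval₂ (evalPts S U.1) w (Polynomial.X * p)) = 0
      rw [Polynomial.eval₂_mul, Polynomial.eval₂_X, map_mul]
      by_cases h : s.1 ∈ Ur.1
      · refine mul_eq_zero_of_right _ ?_
        rw [Polynomial.hom_eval₂]
        have h2 := congrArg (Pi.evalRingHom (fun t : Ur.1 => AlgebraicClosure (S.residueField t.1)) ⟨s.1, h⟩) hpe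
        rw [map_zero, Polynomial.hom_eval₂] at h2
        refine Eq.trans ?_ h2
        have hs : ∀ a, evalPts S U.1 a s = algebraMap Γ(S, U.1) (ptsProd S Ur.1) a ⟨s.1, h⟩ := fun a =>
          congrFun (resPts_evalPts S hle a) ⟨s.1, h⟩
        congr 1
        · exact RingHom.ext hs
        · show w s = _
          simp only [w, dif_pos h]
          show _ = (((⟨r ^ k, k, rfl⟩ : Submonoid.powers r) : Γ(S, U.1)) • z) ⟨s.1, h⟩
          rw [Algebra.smul_def, Pi.mul_apply, ← hs, map_pow, Pi.pow_apply]
      · refine mul_eq_zero_of_left ?_ _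
        show w s = 0
        simp [w, dif_neg h]
    refine ⟨⟨⟨w, hw⟩, ⟨r' ^ k, k, rfl⟩⟩, Subtype.ext (funext fun s => ?_)⟩
    show z s * resPts S hle ((r' ^ k : intSub S U.1) : ptsProd S U.1) s = w ⟨s.1, hle s.2⟩
    rw [SubmonoidClass.coe_pow, map_pow, Pi.pow_apply]
    simp only [w, dif_pos s.2, mul_comm (z s)]
    rfl
  · intro x y hxy
    refine ⟨⟨r' ^ 1, 1, rfl⟩, Subtype.ext (funext fun s => ?_)⟩
    show ((r' ^ 1 : intSub S U.1) : ptsProd S U.1) s * x.1 s = ((r' ^ 1 : intSub S U.1) : ptsProd S U.1) s * y.1 s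
    rw [pow_one]
    show evalPts S U.1 r s * x.1 s = evalPts S U.1 r s * y.1 s
    by_cases h : s.1 ∈ Ur.1
    · have h1 : x.1 s = y.1 s := congrFun (congrArg Subtype.val hxy) ⟨s.1, h⟩
      rw [h1]
    · have h0 : evalPts S U.1 r s = 0 := by
        show algebraMap _ _ (S.evaluation U.1 s.1 s.2 r) = 0
        rw [(Scheme.evaluation_eq_zero_iff_notMem_basicOpen S s.1 s.2 r).mpr h, map_zero]
      rw [h0, zero_mul, zero_mul]

instance : ((relativeGluingData (coequifibered S)).functor ⋙ Scheme.forget).IsLocallyDirected :=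
  Scheme.Cover.RelativeGluingData.instIsLocallyDirectedI₀CompFunctorForgetOfIsThin ..

/-- The glued scheme. -/
def aicCover : Scheme.{u} := (relativeGluingData (coequifibered S)).glued

/-- Its structure map. -/
def aicToBase : aicCover S ⟶ S := (relativeGluingData (coequifibered S)).toBase

/-- Its affine charts. -/
def chart (U : S.affineOpens) : Spec (.of (intSub S U.1)) ⟶ aicCover S :=
  (relativeGluingData (coequifibered S)).cover.f U

instance (U : S.affineOpens) : IsOpenImmersion (chart S U) :=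
  inferInstanceAs (IsOpenImmersion ((relativeGluingData (coequifibered S)).cover.f U))

lemma chart_toBase (U : S.affineOpens) :
    chart S U ≫ aicToBase S = Spec.map ((diagramMap S).app (.op U)) ≫ U.2.fromSpec :=
  colimit.ι_desc _ _

lemma toBase_preimage (U : S.affineOpens) : aicToBase S ⁻¹ᵁ U.1 = (chart S U).opensRange := by
  simpa using! (relativeGluingData (coequifibered S)).toBase_preimage_eq_opensRange_ι U

instance : IsIntegralHom (aicToBase S) := by
  rw [IsZariskiLocalAtTarget.iff_of_iSup_eq_top (P := @IsIntegralHom) (fun U : S.affineOpens => U.1) (iSup_affineOpens_eq_top S)]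
  intro U
  let e := IsOpenImmersion.isoOfRangeEq (aicToBase S ⁻¹ᵁ U.1).ι (chart S U)
    (by simpa using congr($(toBase_preimage S U).1))
  rw [← MorphismProperty.cancel_left_of_respectsIso @IsIntegralHom e.inv,
    ← MorphismProperty.cancel_right_of_respectsIso @IsIntegralHom _ U.2.isoSpec.hom]
  have hi : ((diagramMap S).app (.op U)).hom.IsIntegral := fun z => by
    obtain ⟨p, hp, hpz⟩ := z.2
    refine ⟨p, hp, Subtype.ext ?_⟩
    show (intSub S U.1).subtype _ = 0
    rw [Polynomial.hom_eval₂]
    exact hpz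
  convert! (IsIntegralHom.SpecMap_iff (φ := (diagramMap S).app (.op U))).mpr hi
  rw [← cancel_mono U.2.fromSpec]
  simp [IsAffineOpen.isoSpec_hom, e, chart_toBase]

/-- The prime of a point in the chart. -/
lemma primeIdealOf_eq_ker {U : S.Opens} (hU : IsAffineOpen U) (s : U) :
    (hU.primeIdealOf s).asIdeal = RingHom.ker (S.evaluation U s.1 s.2).hom := by
  ext a
  rw [RingHom.mem_ker]
  refine Iff.trans ?_ (Scheme.evaluation_eq_zero_iff_notMem_basicOpen S s.1 s.2 a).symm
  have h : s.1 ∈ S.basicOpen a ↔ hU.primeIdealOf s ∈ hU.fromSpec ⁻¹ᵁ S.basicOpen a := by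
    show _ ↔ hU.fromSpec _ ∈ S.basicOpen a
    rw [hU.fromSpec_primeIdealOf]
  rw [h, hU.fromSpec_preimage_basicOpen]
  exact not_not.symm

instance : Surjective (aicToBase S) := ⟨fun s => by
  obtain ⟨U, hU, hsU, -⟩ := exists_isAffineOpen_mem_and_subset (U := (⊤ : S.Opens)) (x := s) trivial
  let U' : S.affineOpens := ⟨U, hU⟩
  let P : PrimeSpectrum (intSub S U) :=
    ⟨RingHom.ker ((Pi.evalRingHom (fun s : U => AlgebraicClosure (S.residueField s.1)) ⟨s, hsU⟩).comp (intSub S U).subtype),
      RingHom.ker_isPrime _⟩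
  refine ⟨chart S U' P, ?_⟩
  rw [← Scheme.Hom.comp_apply, chart_toBase, Scheme.Hom.comp_apply]
  refine Eq.trans (congrArg _ ?_) (hU.fromSpec_primeIdealOf ⟨s, hsU⟩)
  refine PrimeSpectrum.ext ?_
  rw [primeIdealOf_eq_ker]
  ext a
  show evalPts S U a ⟨s, hsU⟩ = 0 ↔ S.evaluation U s hsU a = 0
  exact map_eq_zero (algebraMap (S.residueField s) (AlgebraicClosure (S.residueField s)))⟩

/-- Local rings of the charts: domains with roots. -/
lemma chart_localRing (U : S.affineOpens) (P : Ideal (intSub S U.1)) [P.IsPrime] :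
    IsDomain (Localization.AtPrime P) ∧ HasRoots (Localization.AtPrime P) := by
  have hint : ∀ z, (intSub S U.1).subtype.IsIntegralElem z → ∃ b, (intSub S U.1).subtype b = z := by
    intro z hz
    letI := (evalPts S U.1).toAlgebra
    exact ⟨⟨z, isIntegral_trans (A := integralClosure Γ(S, U.1) (ptsProd S U.1)) z hz⟩, rfl⟩
  exact ⟨localization_isDomain _ Subtype.val_injective hint P, localization_hasRoots _ hint Subtype.val_injective P⟩

end Groth.Agent.AICPoint
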