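import Mathlib
import Groth.Agent.AICPoint.Glue
import Groth.Agent.UnivOpen.Main

/-!
# fppf covers are dominated by integral surjective morphisms, Zariski locally
-/

set_option backward.isDefEq.respectTransparency false

universe u

namespace Groth.Agent.AICPoint

open CategoryTheory Limits AlgebraicGeometry TopologicalSpace TensorProduct

/-- Non-emptiness of the closed fibre after base change to a local ring. -/
theorem nontrivial_closedFibre {A B C : Type u} [CommRing A] [CommRing B] [CommRing C] [Algebra A B] [Algebra A C]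
    (P : Ideal B) [P.IsPrime] (q : Ideal C) [q.IsPrime]
    (h : P.comap (algebraMap A B) = q.comap (algebraMap A C)) :
    Nontrivial (IsLocalRing.ResidueField (Localization.AtPrime P) ⊗[Localization.AtPrime P]
      (Localization.AtPrime P ⊗[A] C)) := by
  obtain ⟨L, _, σ, τ, hστ⟩ := UnivOpen.exists_field_amalgam
    (Ideal.ResidueField.map (q.comap (algebraMap A C)) P (algebraMap A B) h.symm)
    (Ideal.ResidueField.map (q.comap (algebraMap A C)) q (algebraMap A C) rfl)
  let σ' : IsLocalRing.ResidueField (Localization.AtPrime P) →+* L := σ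
  letI : Algebra (Localization.AtPrime P) L := (σ'.comp (IsLocalRing.residue _)).toAlgebra
  letI : Algebra A L := ((algebraMap (Localization.AtPrime P) L).comp (algebraMap A _)).toAlgebra
  haveI : IsScalarTower A (Localization.AtPrime P) L := .of_algebraMap_eq' rfl
  let θC : C →ₐ[A] L :=
    { τ.comp (algebraMap C q.ResidueField) with
      commutes' := fun a => by
        show τ (algebraMap C q.ResidueField (algebraMap A C a)) = σ' (IsLocalRing.residue _ (algebraMap A _ a))
        refine (congrArg τ (Ideal.ResidueField.map_algebraMap _ _ (algebraMap A C) rfl a).symm).trans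
          ((hστ _).symm.trans ((congrArg σ (Ideal.ResidueField.map_algebraMap _ _ (algebraMap A B) h.symm a)).trans ?_))
        rw [IsScalarTower.algebraMap_apply A B (Localization.AtPrime P)]
        rfl }
  let θ : Localization.AtPrime P ⊗[A] C →ₐ[Localization.AtPrime P] L :=
    Algebra.TensorProduct.lift (Algebra.ofId _ L) θC (fun _ _ => .all _ _)
  exact ((Algebra.TensorProduct.lift
    ({ σ' with commutes' := fun v => rfl } : IsLocalRing.ResidueField (Localization.AtPrime P) →ₐ[Localization.AtPrime P] L)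
    θ (fun _ _ => .all _ _)).toRingHom).domain_nontrivial

/-- fppf covers are dominated by integral surjective morphisms, Zariski locally. -/
theorem exists_integral_surjective_factors {S' S : Scheme.{u}} (g : S' ⟶ S) [Flat g] [LocallyOfFinitePresentation g]
    [Surjective g] :
    ∃ (T : Scheme.{u}) (π : T ⟶ S), Surjective π ∧ IsIntegralHom π ∧
      ∀ t : ↑T, ∃ (V : T.Opens) (r : ↑V ⟶ S'), t ∈ V ∧ r ≫ g = V.ι ≫ π := by
  refine ⟨aicCover S, aicToBase S, inferInstance, inferInstance, fun t => ?_⟩
  obtain ⟨U, P, rfl⟩ : ∃ (U : S.affineOpens) (P : PrimeSpectrum (intSub S U.1)), chart S U P = t :=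
    (Scheme.AffineZariskiSite.relativeGluingData (coequifibered S)).cover.exists_eq t
  obtain ⟨x, hx⟩ := g.surjective (aicToBase S (chart S U P))
  have hxU : g x ∈ U.1 := by
    rw [hx, ← Scheme.Hom.comp_apply, chart_toBase, Scheme.Hom.comp_apply]
    exact U.2.range_fromSpec.le ⟨_, rfl⟩
  obtain ⟨V₀, hV₀, hxV, hVU⟩ := exists_isAffineOpen_mem_and_subset (U := g ⁻¹ᵁ U.1) (x := x) hxU
  letI : Algebra Γ(S, U.1) Γ(S', V₀) := (g.appLE U.1 V₀ hVU).hom.toAlgebra
  haveI : Algebra.FinitePresentation Γ(S, U.1) Γ(S', V₀) := g.finitePresentation_appLE U.2 hV₀ hVU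
  haveI : Module.Flat Γ(S, U.1) Γ(S', V₀) := g.flat_appLE U.2 hV₀ hVU
  letI : Algebra Γ(S, U.1) (intSub S U.1) := ((evalPts S U.1).codRestrict (intSub S U.1)
    fun a => evalPts_mem S U.1 a).toAlgebra
  obtain ⟨hdom, hroots⟩ := chart_localRing S U P.asIdeal
  have hcomap : P.asIdeal.comap (algebraMap Γ(S, U.1) (intSub S U.1)) =
      (hV₀.primeIdealOf ⟨x, hxV⟩).asIdeal.comap (algebraMap Γ(S, U.1) Γ(S', V₀)) := by
    have h1 : U.2.fromSpec (PrimeSpectrum.comap (algebraMap Γ(S, U.1) Γ(S', V₀)) (hV₀.primeIdealOf ⟨x, hxV⟩)) =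
        aicToBase S (chart S U P) := by
      have e := congr($(IsAffineOpen.SpecMap_appLE_fromSpec g U.2 hV₀ hVU) (hV₀.primeIdealOf ⟨x, hxV⟩))
      simp only [Scheme.Hom.comp_apply, hV₀.fromSpec_primeIdealOf] at e
      exact e.trans hx
    rw [← Scheme.Hom.comp_apply, chart_toBase, Scheme.Hom.comp_apply] at h1
    exact congrArg PrimeSpectrum.asIdeal (U.2.fromSpec.isOpenEmbedding.injective h1).symm
  haveI := nontrivial_closedFibre (A := Γ(S, U.1)) P.asIdeal (hV₀.primeIdealOf ⟨x, hxV⟩).asIdeal hcomap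
  haveI := hdom
  obtain ⟨h⟩ := nonempty_algHom_of_hasRoots (V := Localization.AtPrime P.asIdeal)
    (C := Localization.AtPrime P.asIdeal ⊗[Γ(S, U.1)] Γ(S', V₀)) hroots
  obtain ⟨c, hc, ⟨h'⟩⟩ := exists_away_algHom P.asIdeal
    ((h.restrictScalars Γ(S, U.1)).comp Algebra.TensorProduct.includeRight)
  let jc := Spec.map (CommRingCat.ofHom (algebraMap (intSub S U.1) (Localization.Away c)))
  haveI : IsOpenImmersion jc := IsOpenImmersion.of_isLocalization c
  let j := jc ≫ chart S U
  refine ⟨j.opensRange, j.isoOpensRange.inv ≫ Spec.map (CommRingCat.ofHom h'.toRingHom) ≫ hV₀.fromSpec, ?_, ?_⟩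
  · obtain ⟨P', hP'⟩ := (PrimeSpectrum.localization_away_comap_range (Localization.Away c) c).ge
      (show P ∈ PrimeSpectrum.basicOpen c from hc)
    exact ⟨P', by rw [Scheme.Hom.comp_apply]; exact congrArg (chart S U) hP'⟩
  · rw [← cancel_epi j.isoOpensRange.hom]
    simp only [Category.assoc, Iso.hom_inv_id_assoc, Scheme.Hom.isoOpensRange_hom_ι_assoc]
    rw [← IsAffineOpen.SpecMap_appLE_fromSpec g U.2 hV₀ hVU]
    simp only [j, jc, Category.assoc, chart_toBase, ← Spec.map_comp_assoc]
    refine congrArg (fun f => Spec.map f ≫ U.2.fromSpec) (CommRingCat.hom_ext (RingHom.ext fun a => ?_))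
    exact h'.commutes a

end Groth.Agent.AICPoint
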